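import Cfsg.Agent.H466.T3.Gelfand
import Cfsg.Agent.H498.RP.Bld
import Cfsg.Agent.H139.RealB0.Crit

/-!
# Multiplicity free permutation characters: Gelfand's trick with the inversion (helper589)

* `mf_of_inv` : if `g⁻¹ ∈ P g P` for all `g` then `[1_P^G, χ]` is `0` or `1`;
* `inv_of_bldg` : `g⁻¹ ∈ P g P` for the stabilizer `P` of a residue of type `J` in a strongly transitive group, if
  `w⁻¹ ∈ W_J w W_J` for all `w`;
* `inv_of_words` : the condition on `W` from a table `Orb`: the words and the reversed words of the table have the same levels.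
-/

set_option autoImplicit false

open Cfsg
open scoped ComplexConjugate

namespace Cfsg.Agent.H589.CY

open CoxeterSystem Cfsg.Agent.Tits.Core Cfsg.Agent.Tits.Exchange Cfsg.Agent.ChevalleyStructure.CoxeterGeom
open Cfsg.Agent.Characters.Core Cfsg.Agent.H498.RP

universe u v

section Abs

variable {G : Type u} [Group G] [Fintype G]

theorem mf_sum_of_inv (P : Subgroup G) [Fintype P] (h : ∀ g : G, ∃ a ∈ P, ∃ b ∈ P, g⁻¹ = a * g * b)
    {χ : G → ℂ} (hχ : IsIrrCharacter G χ) :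
    ∑ g : P, χ g = 0 ∨ ∑ g : P, χ g = Nat.card P := by
  have h1 := H466.T3.Gelfand.mult_le_one P.subtype (1 : P →* ℂˣ) (fun g => g⁻¹) (Equiv.inv P)
    (fun x y => mul_inv_rev x y) (fun a => rfl) (fun a => rfl) (fun g => by
      obtain ⟨a, ha, b, hb, e⟩ := h g
      exact Or.inl ⟨⟨a, ha⟩, ⟨b, hb⟩, e, by simp⟩) hχ
  have h2 : classInner (χ ∘ P.subtype) (fun a : P => (((1 : P →* ℂˣ) a : ℂˣ) : ℂ)) = (Nat.card P : ℂ)⁻¹ * ∑ g : P, χ g := by
    rw [classInner_def]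
    congr 1
    refine Finset.sum_congr rfl fun g _ => ?_
    simp
  have h3 : (Nat.card P : ℂ) ≠ 0 := by exact_mod_cast Nat.card_pos.ne'
  rw [h2] at h1
  rcases h1 with h1 | h1
  · left
    exact (mul_eq_zero.1 h1).resolve_left (inv_ne_zero h3)
  · right
    field_simp at h1
    exact h1

/-- **Multiplicity free.** -/
theorem mf_of_inv (P : Subgroup G) (h : ∀ g : G, ∃ a ∈ P, ∃ b ∈ P, g⁻¹ = a * g * b)
    {χ : G → ℂ} (hχ : IsIrrCharacter G χ) :
    classInner (fixedPointCharacter P) χ = 0 ∨ classInner (fixedPointCharacter P) χ = 1 := by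
  classical
  have : Fintype P := Fintype.ofFinite P
  have h3 : (Nat.card P : ℂ) ≠ 0 := by exact_mod_cast Nat.card_pos.ne'
  have h0 := H139.RealB0.Crit.classInner_fixedPointCharacter P (⟨χ, hχ⟩ : IrrCharacter G)
  rw [← map_sum] at h0
  have h0' : classInner (fixedPointCharacter P) χ = (Nat.card P : ℂ)⁻¹ * conj (∑ g : P, χ g) := h0
  rw [h0']
  rcases mf_sum_of_inv P h hχ with h1 | h1
  · left; rw [h1, map_zero, mul_zero]
  · right; rw [h1, map_natCast, inv_mul_cancel₀ h3]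

end Abs

section Bld

variable {I : Type*} {M : CoxeterMatrix I} {W : Type*} [Group W] {cs : CoxeterSystem M W} {C : Type v} (Δ : Bldg cs C)
  {G : Type u} [Group G] [MulAction G C]
  (hiso : ∀ (g : G) (x y : C), Δ.δ (g • x) (g • y) = Δ.δ x y)
  (htr : ∀ x y x' y' : C, Δ.δ x y = Δ.δ x' y' → ∃ g : G, g • x = x' ∧ g • y = y')

include hiso htr in
/-- the condition for the stabilizer of a residue -/
theorem inv_of_bldg {J : Set I} (hJ : ∀ w : W, ∃ u ∈ WJ cs J, ∃ v ∈ WJ cs J, w⁻¹ = u * w * v) (o : C) (P : Subgroup G)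
    (hP : ∀ g, g ∈ P ↔ Δ.δ o (g • o) ∈ WJ cs J) (g : G) : ∃ a ∈ P, ∃ b ∈ P, g⁻¹ = a * g * b := by
  obtain ⟨u, hu, v, hv, e⟩ := hJ (Δ.δ o (g • o))
  obtain ⟨c', hc', e1⟩ := Δ.exists_δ_mul_mem_Res (J := J) (x := g • o) o (Δ.self_mem_Res _ (g • o)) hv
  obtain ⟨o', ho', e2⟩ := Δ.exists_δ_mul_mem_Res (J := J) (x := o) c' (Δ.self_mem_Res _ o) (inv_mem hu)
  have h1 : Δ.δ o' c' = Δ.δ o (g⁻¹ • o) := by
    have h2 : Δ.δ o (g⁻¹ • o) = (Δ.δ o (g • o))⁻¹ := by
      rw [← hiso g, smul_inv_smul, Δ.symm]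
    rw [h2, e, Δ.symm c' o', e2, Δ.symm o c', e1]
    group
  obtain ⟨x, hx1, hx2⟩ := htr o' c' o (g⁻¹ • o) h1
  have hxP : x ∈ P := by
    rw [hP]
    nth_rw 1 [← hx1]
    rw [hiso]
    exact Δ.mem_Res_symm ho'
  obtain ⟨b, hb, -⟩ := htr o o (g⁻¹ • c') (g⁻¹ • c') (by rw [Δ.δ_self, Δ.δ_self])
  have hbP : b ∈ P := by
    rw [hP, hb, ← hiso g, smul_inv_smul]
    exact hc'
  have h3 : (x * g * b)⁻¹ * g⁻¹ ∈ P := by
    rw [hP, mul_smul, ← hx2]
    have h4 : (x * g * b)⁻¹ • x • c' = o := by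
      rw [inv_smul_eq_iff, mul_smul, mul_smul, hb, smul_inv_smul]
    rw [h4, Δ.δ_self]
    exact one_mem _
  exact ⟨x, hxP, b * ((x * g * b)⁻¹ * g⁻¹), mul_mem hbP h3, by group⟩

end Bld

section Words

variable {I : Type*} [Fintype I] [DecidableEq I] {A : I → I → ℤ} {i0 : I} {m r : ℕ} (O : Orb A i0 m r)
  {M : CoxeterMatrix I} {W : Type*} [Group W] (cs : CoxeterSystem M W) (h : IsCartan M A)

theorem lab_wordProd (l : List I) : lab O cs h (cs.wordProd l) = l.foldl (fun b i => O.act i b) O.b0 := by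
  have key : ∀ (l : List I) (w : W), lab O cs h (w * cs.wordProd l) = l.foldl (fun b i => O.act i b) (lab O cs h w) := by
    intro l
    induction l with
    | nil => intro w; rw [cs.wordProd_nil, mul_one]; rfl
    | cons i l ih =>
      intro w
      rw [cs.wordProd_cons, ← mul_assoc, ih, lab_mul_simple]
      rfl
  have h1 := key l 1
  rwa [one_mul, lab_one] at h1

include h in
/-- the condition on the Weyl group from the words of the table -/
theorem inv_of_words (hrev : ∀ k, O.lv ((O.wd k).reverse.foldl (fun b i => O.act i b) O.b0) = k) (w : W) :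
    ∃ u ∈ WJ cs {j | j ≠ i0}, ∃ v ∈ WJ cs {j | j ≠ i0}, w⁻¹ = u * w * v := by
  set k := O.lv (lab O cs h w) with hk
  have h1 : O.lv (lab O cs h (cs.wordProd (O.wd k))) = k := by
    rw [lab_wordProd, O.word, O.lv_base]
  have h2 : O.lv (lab O cs h (cs.wordProd (O.wd k))⁻¹) = k := by
    rw [← cs.wordProd_reverse, lab_wordProd, hrev]
  obtain ⟨u₁, hu₁, v₁, hv₁, e₁⟩ := exists_dc O cs h (h1.trans hk)
  obtain ⟨u₂, hu₂, v₂, hv₂, e₂⟩ := exists_dc O cs h (hk.symm.trans h2.symm)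
  refine ⟨v₁⁻¹ * u₂, mul_mem (inv_mem hv₁) hu₂, v₂ * u₁⁻¹, mul_mem hv₂ (inv_mem hu₁), ?_⟩
  have h3 : v₁⁻¹ * u₂ * w * (v₂ * u₁⁻¹) = v₁⁻¹ * (u₂ * w * v₂) * u₁⁻¹ := by group
  rw [h3, ← e₂, e₁]
  group

end Words

end Cfsg.Agent.H589.CY
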