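import Cfsg.Agent.H589.CY.Mf
import Cfsg.Agent.H498.RP.F4
import Cfsg.Agent.H498.RP.Rgd

/-!
# Multiplicity free: type `F₄`, the two end nodes (helper589)

`mf_F4_long`, `mf_F4_short` : the companions of `H498.RP.int_F4_long`, `int_F4_short`; `mf_PJ` : for a root group datum
with a table `Orb`.
-/

set_option autoImplicit false

open Cfsg

namespace Cfsg.Agent.H589.CY

open CoxeterSystem Cfsg.Agent.Tits.Core Cfsg.Agent.Tits.Exchange Cfsg.Agent.ChevalleyStructure.CoxeterGeom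
open Cfsg.Agent.Characters.Core Cfsg.Agent.H498.RP
open Cfsg.Agent.Nodes.Reps Cfsg.Agent.Nodes.BNOf Cfsg.Agent.Nodes.StabComb Cfsg.Agent.Nodes.Bruhat
  Cfsg.Agent.Nodes.LeviDec Cfsg.Agent.Tits.Roots

universe u v

/-- **Multiplicity free for a root group datum.** -/
theorem mf_PJ {I W : Type*} {Y : Type u} [Fintype I] [DecidableEq I] [Group W] [Group Y] [Fintype Y]
    {M : CoxeterMatrix I} {cs : CoxeterSystem M W} {A : I → I → ℤ} {h : IsCartan M A} {r : ℕ} {T : Subgroup Y}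
    {n : I → Y} {X : (I → ℤ) → Subgroup Y} [Finite W] (R : RGD cs h r T n X) (hG : GG cs h T X = ⊤) {J : Set I}
    (hJ : ∀ w : W, ∃ u ∈ WJ cs J, ∃ v ∈ WJ cs J, w⁻¹ = u * w * v) {χ : Y → ℂ} (hχ : IsIrrCharacter Y χ) :
    classInner (fixedPointCharacter (PJ cs h T X J)) χ = 0 ∨ classInner (fixedPointCharacter (PJ cs h T X J)) χ = 1 := by
  obtain ⟨Δ, hiso, htr, -, hPJ⟩ := exists_bldg_PJ R hG (q := fun i => Nat.card (X (sr i))) fun _ => rfl
  exact mf_of_inv _ (inv_of_bldg Δ hiso htr hJ (QuotientGroup.mk 1) _ fun g => hPJ J g) hχ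

section F4

variable {W : Type*} [Group W] (cs : CoxeterSystem CoxeterMatrix.F₄ W)

theorem inv_F4_long (w : W) : ∃ u ∈ WJ cs {j | j ≠ (0 : Fin 4)}, ∃ v ∈ WJ cs {j | j ≠ (0 : Fin 4)}, w⁻¹ = u * w * v :=
  inv_of_words Fa.orb cs Nodes.RGDTwE6.isCartan (by decide +kernel) w

theorem inv_F4_short (w : W) : ∃ u ∈ WJ cs {j | j ≠ (3 : Fin 4)}, ∃ v ∈ WJ cs {j | j ≠ (3 : Fin 4)}, w⁻¹ = u * w * v :=
  inv_of_words Fb.orb cs Nodes.RGDTwE6.isCartan (by decide +kernel) w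

end F4

end Cfsg.Agent.H589.CY
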