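import Cfsg.Agent.H498.RP.TwE6
import Cfsg.Agent.H589.CY.MfF4

/-!
# `²E₆(q)`: the indices, the class of the parabolic subgroups, multiplicities (helper589; S4829)
-/

set_option autoImplicit false
set_option linter.unusedSectionVars false

namespace Cfsg.Agent.H589.CY

open CoxeterSystem Cfsg.Agent.ChevalleyStructure.CoxeterGeom Cfsg.Agent.Tits.Roots Cfsg.Agent.Tits.Core
  Cfsg.Agent.Tits.RootComb Cfsg.Agent.Nodes.Comb Cfsg.Agent.Nodes.Reps Cfsg.Agent.Nodes.BNOf
  Cfsg.Agent.Nodes.StabComb Cfsg.Agent.Nodes.Bruhat Cfsg.Agent.Nodes.LeviDec Cfsg.Agent.H35.Poin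
  Cfsg.Agent.H35.PoinNum Cfsg.Agent.H35.ExcIdx
open Cfsg Cfsg.Lie Cfsg.Agent.ChevalleyStructure Cfsg.Agent.ChevalleyStructure.TwE6BN
open Cfsg.Agent.ChevalleyStructure.TwE6Basic (posE negE sg fix n exists_frob twisted_le_fix)
open Cfsg.Agent.H781.RatTE6 Cfsg.Agent.H498.RP Cfsg.Agent.H554 Cfsg.Agent.H554.RG Cfsg.Agent.H116.RatB0 Cfsg.Agent.KFacts.RgdDiag

universe u

/-! ### the conjugacy class of `P_J` under automorphisms -/

section Cls

variable {I W : Type*} {Y : Type u} [Fintype I] [DecidableEq I] [Group W] [Group Y] {M : CoxeterMatrix I}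
  {cs : CoxeterSystem M W} {A : I → I → ℤ} {h : IsCartan M A} {r : ℕ} {T : Subgroup Y} {n : I → Y}
  {X : (I → ℤ) → Subgroup Y} [Finite W] [Finite Y] [Fact r.Prime] (R : RGD cs h r T n X) (hG : GG cs h T X = ⊤)

include R hG

theorem card_of_std {β : MulAut Y} {σ : Equiv.Perm I} (hσ : Std cs h T X β σ) (i : I) :
    Nat.card (X (sr (σ i))) = Nat.card (X (sr i)) := by
  have h1 : (X (sr i)).map β.toMonoidHom = X (sr (σ i)) := by
    ext x
    constructor
    · rintro ⟨y, hy, rfl⟩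
      exact (hσ.diag.pos i y).2 hy
    · intro hx
      refine ⟨β⁻¹ x, (hσ.diag.pos i _).1 ?_, MulAut.apply_inv_self Y β x⟩
      rw [MulAut.apply_inv_self]
      exact hx
  rw [← h1]
  exact Nat.card_congr ((X (sr i)).equivMapOfInjective _ β.injective).toEquiv.symm

/-- **The class of `P_J` is stable** if `J` is invariant under the permutations which preserve the Coxeter matrix and the
orders of the root groups. -/
theorem stab_of_card {J : Set I} (hJ : ∀ σ : Equiv.Perm I, (∀ i j, M (σ i) (σ j) = M i j) →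
    (∀ i, Nat.card (X (sr (σ i))) = Nat.card (X (sr i))) → σ '' J = J) (a : MulAut Y) :
    ∃ s : Y, (PJ cs h T X J).map a.toMonoidHom = (PJ cs h T X J).map (MulAut.conj s).toMonoidHom := by
  obtain ⟨s, σ, hσ⟩ := exists_std_conj R hG a
  have h1 := map_PJ R hG hσ J
  rw [hJ σ (fun i j => Diag.matrix (R := R) hσ.diag i j) (card_of_std R hG hσ)] at h1
  refine ⟨s⁻¹, ?_⟩
  have e : (MulAut.conj s * a : MulAut Y).toMonoidHom = (MulAut.conj s).toMonoidHom.comp
      (a : Y ≃* Y).toMonoidHom := rfl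
  rw [e, ← Subgroup.map_map] at h1
  have h2 := congrArg (fun Z : Subgroup Y => Z.map (MulAut.conj s⁻¹).toMonoidHom) h1
  simp only [map_conj_map_conj, inv_mul_cancel, map_conj_one] at h2
  exact h2

/-- parabolic subgroups are self-normalizing -/
theorem normalizer_PJ (J : Set I) : Subgroup.normalizer ((PJ cs h T X J : Subgroup Y) : Set Y) = PJ cs h T X J := by
  refine le_antisymm (fun g hg => ?_) Subgroup.le_normalizer
  refine mem_of_B_le_conj R hG B_le_PJ ?_
  rw [mem_normalizer_iff_map.mp hg]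
  exact B_le_PJ

end Cls

theorem perm_zero : ∀ σ : Equiv.Perm (Fin 4), σ 0 ≠ 2 → σ 0 ≠ 3 → σ 1 ≠ 2 → σ 1 ≠ 3 →
    CoxeterMatrix.F₄ (σ 1) (σ 2) = 4 → CoxeterMatrix.F₄ (σ 2) (σ 3) = 3 → σ 0 = 0 ∧ σ 3 = 3 := by
  have e : ∀ i j, CoxeterMatrix.F₄ i j = (![![1, 3, 2, 2], ![3, 1, 4, 2], ![2, 4, 1, 3], ![2, 2, 3, 1]] :
    Fin 4 → Fin 4 → ℕ) i j := by intro i j; fin_cases i <;> fin_cases j <;> rfl
  intro σ
  rw [e, e]
  revert σ
  decide +kernel

end Cfsg.Agent.H589.CY
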