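import Cfsg.Agent.H589.CY.TeIdx
import Cfsg.Agent.H310.CY.PJ
import Cfsg.Agent.H116.CY.StA

/-!
# S4829, `²E₆(q)` (helper589)

* `rowA_te6_ell` : `p ∤ q - 1`, `p ∤ q⁴ + 1`, and `p ∣ q⁵ + 1` only if `p ∣ q + 1`: the Steinberg character;
* `mf_te6_zero` : `p ∣ q⁴ + 1`, the parabolic subgroup with Levi factor `²A₅`; `mf_te6_three` : `p ∣ q⁵ + 1`, the one with
  Levi factor `²D₄` (multiplicity free permutation characters with integer valued constituents).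
-/

set_option autoImplicit false
set_option linter.unusedSectionVars false

namespace Cfsg.Agent.H589.CY

open CoxeterSystem Cfsg.Agent.ChevalleyStructure.CoxeterGeom Cfsg.Agent.Tits.Roots Cfsg.Agent.Tits.Core
  Cfsg.Agent.Tits.RootComb Cfsg.Agent.Nodes.Comb Cfsg.Agent.Nodes.Reps Cfsg.Agent.Nodes.BNOf
  Cfsg.Agent.Nodes.StabComb Cfsg.Agent.Nodes.Bruhat Cfsg.Agent.Nodes.LeviDec Cfsg.Agent.H35.Poin
  Cfsg.Agent.H35.PoinNum Cfsg.Agent.H35.ExcIdx
open Cfsg Cfsg.Lie Cfsg.Agent.ChevalleyStructure Cfsg.Agent.ChevalleyStructure.TwE6BN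
open Cfsg.Agent.ChevalleyStructure.TwE6Basic (posE negE sg fix n exists_frob twisted_le_fix)
open Cfsg.Agent.H781.RatTE6 Cfsg.Agent.H498.RP Cfsg.Agent.H554 Cfsg.Agent.H554.RG Cfsg.Agent.H116.RatB0
open Cfsg.Agent.KFacts.RgdDiag
open Cfsg.Agent.H770.CY (RowA RowForA)

universe u

section

variable {K : Type u} [Field K] [Fintype K] {q r f : ℕ} (hr : r.Prime) (hf : f ≠ 0) (hq : q = r ^ f) [CharP K r]
  {φ : K →+* K} (hφ : ∀ x, φ x = x ^ q) (hqq : ∀ t : K, (t ^ q) ^ q = t) (hK : Fintype.card K = q ^ 2)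

theorem GG_te6 {φ : K →+* K} (hφ : ∀ x, φ x = x ^ q) (hqq : ∀ t : K, (t ^ q) ^ q = t) :
    GG CoxeterMatrix.F₄.toCoxeterSystem Nodes.RGDTwE6.isCartan (Nodes.RGDTwE6.T K q) (Nodes.RGDTwE6.X φ q) = ⊤ := by
  rw [eq_top_iff, ← Nodes.RGDTwE6.G1_eq_top CoxeterMatrix.F₄.toCoxeterSystem hφ hqq]
  exact le_sup_right

theorem finite_WF4 : Finite CoxeterMatrix.F₄.Group := Nodes.RGDFold.finite_W (hp := Nodes.RGDTwE6.hp)
    CoxeterMatrix.F₄.toCoxeterSystem Nodes.RGDTwE6.isCartan Nodes.RGDTwE6.foldData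

include hr hf hq hφ hqq hK

/-- the three numbers -/
theorem nums : ¬ r ∣ PT q ∧ Nat.gcd 3 (q + 1) * Nat.card ↥(Nodes.RGDTwE6.T K q) = (q - 1) ^ 4 * (q + 1) ^ 2 ∧
    ¬ r ∣ Nat.gcd 3 (q + 1) ∧ Nat.gcd 3 (q + 1) * Nat.card ↥(twistedE6 K q) = r ^ (f * 36) * PT q := by
  have : Fact r.Prime := ⟨hr⟩
  have h2 : 2 ≤ q := by rw [hq]; exact two_le hr hf
  have hpp : IsPrimePow q := by rw [hq]; exact hr.isPrimePow.pow hf
  refine ⟨?_, ?_, ?_, ?_⟩
  · intro h3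
    have h4 : r ∣ pr q [2, 6, 8, 10, 12, 18] := by
      rw [← PT_mul (by omega)]; exact Dvd.dvd.mul_right h3 _
    rw [hq] at h4
    exact not_dvd_pr hr hf _ (by simp) h4
  · rw [← Cfsg.Agent.S1102.result hpp hK]
    congr 1
    exact Nat.card_congr (Subgroup.subgroupOfEquivOfLe inf_le_right).toEquiv
  · intro h3
    have h4 : r ∣ q + 1 := h3.trans (Nat.gcd_dvd_right _ _)
    have h5 : r ∣ q := by rw [hq]; exact dvd_pow_self r hf
    exact hr.one_lt.ne' (Nat.dvd_one.1 ((Nat.dvd_add_right h5).1 h4))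
  · rw [Cfsg.Agent.S1066.result hpp hK, pow_mul, ← hq]
    unfold PT
    ring

/-- `q⁴ + 1` divides the index of the parabolic subgroup with Levi factor `²A₅` -/
theorem dvd_index_zero : q ^ 4 + 1 ∣ (PJ CoxeterMatrix.F₄.toCoxeterSystem Nodes.RGDTwE6.isCartan (Nodes.RGDTwE6.T K q)
    (Nodes.RGDTwE6.X φ q) {j | j ≠ (0 : Fin 4)}).index := by
  have : Fact r.Prime := ⟨hr⟩
  have h2 : 2 ≤ q := by rw [hq]; exact two_le hr hf
  have hfin := finite_WF4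
  have R := Nodes.RGDTwE6.rgd CoxeterMatrix.F₄.toCoxeterSystem hφ hqq r
  obtain ⟨hP, hT, hd, hS⟩ := nums hr hf hq hφ hqq hK
  have e : ({j | j ≠ (0 : Fin 4)} : Set (Fin 4)) = {j | j ∈ ([1, 2, 3] : List (Fin 4))} := by
    ext j; revert j; decide
  rw [e]
  exact dvd_zero h2 (index_eq R (GG_te6 hφ hqq) (H631.Fpf.CardTw.card_P123 (p := r) hφ hqq (by omega) hK) hd hT hS hP)

/-- `q⁵ + 1` divides the index of the parabolic subgroup with Levi factor `²D₄` -/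
theorem dvd_index_three : q ^ 5 + 1 ∣ (PJ CoxeterMatrix.F₄.toCoxeterSystem Nodes.RGDTwE6.isCartan (Nodes.RGDTwE6.T K q)
    (Nodes.RGDTwE6.X φ q) {j | j ≠ (3 : Fin 4)}).index := by
  have : Fact r.Prime := ⟨hr⟩
  have h2 : 2 ≤ q := by rw [hq]; exact two_le hr hf
  have hfin := finite_WF4
  have R := Nodes.RGDTwE6.rgd CoxeterMatrix.F₄.toCoxeterSystem hφ hqq r
  obtain ⟨hP, hT, hd, hS⟩ := nums hr hf hq hφ hqq hK
  have e : ({j | j ≠ (3 : Fin 4)} : Set (Fin 4)) = {j | j ∈ ([0, 1, 2] : List (Fin 4))} := by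
    ext j; revert j; decide
  rw [e]
  exact dvd_three h2 (index_eq R (GG_te6 hφ hqq) (H631.Fpf.CardTw.card_P012 (p := r) hφ hqq (by omega) hK) hd hT hS hP)

/-- **The elliptic case.** -/
theorem rowA_te6_ell {p : ℕ} [hp : Fact p.Prime] [Fintype ↥(twistedE6 K q)] (hpr : p ≠ r)
    (hpS : p ∣ Nat.card ↥(twistedE6 K q)) (h1 : ¬ p ∣ q - 1)
    (h4 : ¬ p ∣ q ^ 4 + 1) (h5 : p ∣ q ^ 5 + 1 → p ∣ q + 1) : RowA p ↥(twistedE6 K q) := by
  have : Fact r.Prime := ⟨hr⟩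
  have h2 : 2 ≤ q := by rw [hq]; exact two_le hr hf
  have hfin := finite_WF4
  have R := Nodes.RGDTwE6.rgd CoxeterMatrix.F₄.toCoxeterSystem hφ hqq r
  have hGG := GG_te6 (q := q) hφ hqq
  obtain ⟨hP, hT, hd, hS⟩ := nums hr hf hq hφ hqq hK
  have hpnr : ¬ p ∣ r := fun h => hpr ((Nat.prime_dvd_prime_iff_eq hp.out hr).1 h)
  have hPT : p ∣ PT q := by
    have h3 : p ∣ r ^ (f * 36) * PT q := by
      rw [← hS]
      exact hpS.mul_left _
    rcases hp.out.dvd_mul.1 h3 with h6 | h6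
    · exact absurd (hp.out.dvd_of_dvd_pow h6) hpnr
    · exact h6
  have hc := dvd_cz hp.out (by omega) hPT h1 h4 h5
  refine H116.CY.rowA_of_index R hGG hpr fun k => ?_
  fin_cases k
  · have e : ({j | j ≠ (0 : Fin 4)} : Set (Fin 4)) = {j | j ∈ ([1, 2, 3] : List (Fin 4))} := by
      ext j; revert j; decide
    show p ∣ (PJ CoxeterMatrix.F₄.toCoxeterSystem Nodes.RGDTwE6.isCartan (Nodes.RGDTwE6.T K q)
      (Nodes.RGDTwE6.X φ q) {j | j ≠ (0 : Fin 4)}).index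
    rw [e]
    exact idx_zero h2 hc (index_eq R hGG (H631.Fpf.CardTw.card_P123 (p := r) hφ hqq (by omega) hK) hd hT hS hP)
  · exact (data_TwE6_1 hr hf hq hφ hqq hK).idx p hp.out hpS hpnr h1
  · exact (data_TwE6_2 hr hf hq hφ hqq hK).idx p hp.out hpS hpnr h1
  · have e : ({j | j ≠ (3 : Fin 4)} : Set (Fin 4)) = {j | j ∈ ([0, 1, 2] : List (Fin 4))} := by
      ext j; revert j; decide
    show p ∣ (PJ CoxeterMatrix.F₄.toCoxeterSystem Nodes.RGDTwE6.isCartan (Nodes.RGDTwE6.T K q)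
      (Nodes.RGDTwE6.X φ q) {j | j ≠ (3 : Fin 4)}).index
    rw [e]
    exact idx_three h2 hc (index_eq R hGG (H631.Fpf.CardTw.card_P012 (p := r) hφ hqq (by omega) hK) hd hT hS hP)

/-- permutations of the nodes which preserve the matrix and the orders of the root groups fix the end nodes -/
theorem perm_te6 {σ : Equiv.Perm (Fin 4)} (hσ : ∀ i j, CoxeterMatrix.F₄ (σ i) (σ j) = CoxeterMatrix.F₄ i j)
    (hX : ∀ i, Nat.card (Nodes.RGDTwE6.X φ q (sr (σ i))) = Nat.card (Nodes.RGDTwE6.X φ q (sr i))) :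
    σ 0 = 0 ∧ σ 3 = 3 := by
  have : Fact r.Prime := ⟨hr⟩
  have h2 : 2 ≤ q := by rw [hq]; exact two_le hr hf
  have hc : ∀ i, Nat.card (Nodes.RGDTwE6.X φ q (sr i)) = (![q, q, q ^ 2, q ^ 2] : Fin 4 → ℕ) i := by
    intro i
    rw [card_X_tw hφ hqq (by omega) hK]
    fin_cases i <;> simp [fE]
  have hne : q ^ 2 ≠ q := by nlinarith
  simp only [hc] at hX
  refine perm_zero σ ?_ ?_ ?_ ?_ (hσ 1 2) (hσ 2 3)
  · intro h; have := hX 0; rw [h] at this; exact hne this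
  · intro h; have := hX 0; rw [h] at this; exact hne this
  · intro h; have := hX 1; rw [h] at this; exact hne this
  · intro h; have := hX 1; rw [h] at this; exact hne this

/-- **`p ∣ q⁴ + 1`.** -/
theorem mf_te6_zero {p : ℕ} [Fintype ↥(twistedE6 K q)] (h : p ∣ q ^ 4 + 1) : H310.CY.MF p
    (PJ CoxeterMatrix.F₄.toCoxeterSystem Nodes.RGDTwE6.isCartan (Nodes.RGDTwE6.T K q)
      (Nodes.RGDTwE6.X φ q) {j | j ≠ (0 : Fin 4)}) := by
  classical
  have : Fact r.Prime := ⟨hr⟩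
  have h2 : 2 ≤ q := by rw [hq]; exact two_le hr hf
  have hfin := finite_WF4
  have R := Nodes.RGDTwE6.rgd CoxeterMatrix.F₄.toCoxeterSystem hφ hqq r
  have hGG := GG_te6 (q := q) hφ hqq
  refine ⟨normalizer_PJ R hGG _, stab_of_card R hGG fun σ hσ hX => ?_, h.trans (dvd_index_zero hr hf hq hφ hqq hK), ?_⟩
  · exact H541.RatB0.image_ne (perm_te6 hr hf hq hφ hqq hK hσ hX).1
  · intro θ
    rcases mf_PJ R hGG (inv_F4_long CoxeterMatrix.F₄.toCoxeterSystem) θ.2 with h1 | h1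
    · exact Or.inl h1
    · refine Or.inr ⟨h1, fun g => ?_⟩
      have hc : ∀ i, Nat.card (Nodes.RGDTwE6.X φ q (sr i)) = (![q, q, q ^ 2, q ^ 2] : Fin 4 → ℕ) i := by
        intro i
        rw [card_X_tw hφ hqq (by omega) hK]
        fin_cases i <;> simp [fE]
      obtain ⟨Δ, hiso, htr, hΔ, hPJ⟩ := exists_bldg_PJ R hGG hc
      have hfC : Fintype (↥(twistedE6 K q) ⧸ RGD.B CoxeterMatrix.F₄.toCoxeterSystem Nodes.RGDTwE6.isCartan
        (Nodes.RGDTwE6.T K q) (Nodes.RGDTwE6.X φ q)) := Fintype.ofFinite _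
      refine int_F4_long Δ (s := q) (t := q ^ 2) (by omega) (Nat.one_le_pow _ _ (by omega)) hΔ hiso htr
        (QuotientGroup.mk 1) _ (fun g => hPJ _ g) θ.2 ?_ g
      intro h0
      have h3 := H139.RealB0.Crit.classInner_fixedPointCharacter (PJ CoxeterMatrix.F₄.toCoxeterSystem
        Nodes.RGDTwE6.isCartan (Nodes.RGDTwE6.T K q) (Nodes.RGDTwE6.X φ q) {j | j ≠ (0 : Fin 4)}) θ
      rw [h1, ← map_sum, h0, map_zero, mul_zero] at h3
      exact one_ne_zero h3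

/-- **`p ∣ q⁵ + 1`.** -/
theorem mf_te6_three {p : ℕ} [Fintype ↥(twistedE6 K q)] (h : p ∣ q ^ 5 + 1) : H310.CY.MF p
    (PJ CoxeterMatrix.F₄.toCoxeterSystem Nodes.RGDTwE6.isCartan (Nodes.RGDTwE6.T K q)
      (Nodes.RGDTwE6.X φ q) {j | j ≠ (3 : Fin 4)}) := by
  classical
  have : Fact r.Prime := ⟨hr⟩
  have h2 : 2 ≤ q := by rw [hq]; exact two_le hr hf
  have hfin := finite_WF4
  have R := Nodes.RGDTwE6.rgd CoxeterMatrix.F₄.toCoxeterSystem hφ hqq r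
  have hGG := GG_te6 (q := q) hφ hqq
  refine ⟨normalizer_PJ R hGG _, stab_of_card R hGG fun σ hσ hX => ?_, h.trans (dvd_index_three hr hf hq hφ hqq hK), ?_⟩
  · exact H541.RatB0.image_ne (perm_te6 hr hf hq hφ hqq hK hσ hX).2
  · intro θ
    rcases mf_PJ R hGG (inv_F4_short CoxeterMatrix.F₄.toCoxeterSystem) θ.2 with h1 | h1
    · exact Or.inl h1
    · refine Or.inr ⟨h1, fun g => ?_⟩
      have hc : ∀ i, Nat.card (Nodes.RGDTwE6.X φ q (sr i)) = (![q, q, q ^ 2, q ^ 2] : Fin 4 → ℕ) i := by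
        intro i
        rw [card_X_tw hφ hqq (by omega) hK]
        fin_cases i <;> simp [fE]
      obtain ⟨Δ, hiso, htr, hΔ, hPJ⟩ := exists_bldg_PJ R hGG hc
      have hfC : Fintype (↥(twistedE6 K q) ⧸ RGD.B CoxeterMatrix.F₄.toCoxeterSystem Nodes.RGDTwE6.isCartan
        (Nodes.RGDTwE6.T K q) (Nodes.RGDTwE6.X φ q)) := Fintype.ofFinite _
      refine int_F4_short Δ (s := q) (t := q ^ 2) (by omega) (Nat.one_le_pow _ _ (by omega)) hΔ hiso htr
        (QuotientGroup.mk 1) _ (fun g => hPJ _ g) θ.2 ?_ g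
      intro h0
      have h3 := H139.RealB0.Crit.classInner_fixedPointCharacter (PJ CoxeterMatrix.F₄.toCoxeterSystem
        Nodes.RGDTwE6.isCartan (Nodes.RGDTwE6.T K q) (Nodes.RGDTwE6.X φ q) {j | j ≠ (3 : Fin 4)}) θ
      rw [h1, ← map_sum, h0, map_zero, mul_zero] at h3
      exact one_ne_zero h3

end

end Cfsg.Agent.H589.CY
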